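import Mathlib
import Groth.Agent.CAlgH.CompleteLocal
import Groth.Agent.CAlgH3.CompleteHom
import Groth.Agent.CAlgH.AdicSmoothModel
import Groth.Agent.CAlgMisc2.LocalFinite
import Groth.Agent.DimLib.Algebra

/-! The algebras `R[u_1, …, u_n] / (u_i ^ p - c_i u_i - x_i)`: monomial basis, and, for power series
base, regularity. -/

universe u

open scoped TensorProduct
open MvPolynomial

namespace Groth.Agent.WildAS

section Free
variable {R : Type u} [CommRing R] {σ : Type} [Fintype σ] [DecidableEq σ] (p : ℕ) (c x : σ → R)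

/-- The defining ideal. -/
noncomputable abbrev rel : Ideal (MvPolynomial σ R) :=
  Ideal.span (Set.range fun i : σ => X i ^ p - C (c i) * X i - C (x i))

abbrev Alg : Type u := MvPolynomial σ R ⧸ rel p c x

/-- The class of `u_i`. -/
noncomputable def gen (i : σ) : Alg p c x := Ideal.Quotient.mk _ (X i)

theorem gen_pow (i : σ) :
    gen p c x i ^ p = algebraMap R (Alg p c x) (c i) * gen p c x i + algebraMap R (Alg p c x) (x i) := by
  have h : Ideal.Quotient.mk (rel p c x) (X i ^ p - C (c i) * X i - C (x i)) = 0 :=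
    Ideal.Quotient.eq_zero_iff_mem.mpr (Ideal.subset_span ⟨i, rfl⟩)
  rw [map_sub, map_sub, map_mul, map_pow, sub_sub, sub_eq_zero] at h
  exact h

/-- The one-variable relation. -/
noncomputable def g (i : σ) : Polynomial R :=
  Polynomial.X ^ p - Polynomial.C (c i) * Polynomial.X - Polynomial.C (x i)

theorem aeval_g {S : Type*} [CommRing S] [Algebra R S] (z : S) (i : σ) :
    Polynomial.aeval z (g p c x i) = z ^ p - algebraMap R S (c i) * z - algebraMap R S (x i) := by
  simp [g]

variable {p}

theorem g_monic (hp : 2 ≤ p) (i : σ) : (g p c x i).Monic := by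
  rw [g, sub_sub]
  refine Polynomial.monic_X_pow_sub (lt_of_le_of_lt (Polynomial.degree_add_le _ _) (max_lt ?_ ?_))
  · exact lt_of_le_of_lt (Polynomial.degree_C_mul_X_le _) (by exact_mod_cast (by omega : 1 < p))
  · exact lt_of_le_of_lt Polynomial.degree_C_le (by exact_mod_cast (by omega : 0 < p))

theorem g_natDegree [Nontrivial R] (hp : 2 ≤ p) (i : σ) : (g p c x i).natDegree = p := by
  rw [g, sub_sub, Polynomial.natDegree_sub_eq_left_of_natDegree_lt] <;> rw [Polynomial.natDegree_X_pow]
  refine lt_of_le_of_lt (Polynomial.natDegree_add_le _ _) (max_lt ?_ ?_)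
  · exact lt_of_le_of_lt (Polynomial.natDegree_C_mul_le _ _)
      (lt_of_le_of_lt Polynomial.natDegree_X_le (by omega))
  · rw [Polynomial.natDegree_C]; omega

variable (p)

/-- The monomial with exponents below `p`. -/
noncomputable def mono (e : σ → Fin p) : Alg p c x := ∏ i, gen p c x i ^ (e i : ℕ)

abbrev Tens : Type u := ⨂[R] i : σ, AdjoinRoot (g p c x i)

noncomputable def toTens : Alg p c x →ₐ[R] Tens p c x :=
  Ideal.Quotient.liftₐ _
    (aeval fun i => PiTensorProduct.singleAlgHom (R := R) (A := fun i => AdjoinRoot (g p c x i)) i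
      (AdjoinRoot.root (g p c x i)))
    (fun a ha => by
      refine RingHom.mem_ker.mp (Ideal.span_le.mpr ?_ ha)
      rintro _ ⟨i, rfl⟩
      have hr : Polynomial.aeval (AdjoinRoot.root (g p c x i)) (g p c x i) = 0 := by
        rw [AdjoinRoot.aeval_eq, AdjoinRoot.mk_self]
      have h := congrArg (PiTensorProduct.singleAlgHom (R := R)
        (A := fun i => AdjoinRoot (g p c x i)) i) hr
      rw [map_zero, ← Polynomial.aeval_algHom_apply, aeval_g] at h
      simpa using h)

theorem toTens_gen (i : σ) : toTens p c x (gen p c x i)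
    = PiTensorProduct.singleAlgHom (R := R) (A := fun i => AdjoinRoot (g p c x i)) i
      (AdjoinRoot.root (g p c x i)) := by
  simp [toTens, gen]

noncomputable def factor (i : σ) : AdjoinRoot (g p c x i) →ₐ[R] Alg p c x :=
  AdjoinRoot.liftAlgHom (g p c x i) (Algebra.ofId R _) (gen p c x i) (by
    have := gen_pow p c x i
    simp only [g, Polynomial.eval₂_sub, Polynomial.eval₂_mul, Polynomial.eval₂_C, Polynomial.eval₂_X,
      Polynomial.eval₂_X_pow]
    rw [this]
    simp [Algebra.ofId_apply])

noncomputable def fromTens : Tens p c x →ₐ[R] Alg p c x :=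
  PiTensorProduct.liftAlgHom
    ((MultilinearMap.mkPiAlgebra R σ (Alg p c x)).compLinearMap fun i => (factor p c x i).toLinearMap)
    (by simp)
    (fun a b => by simp [Finset.prod_mul_distrib])

theorem fromTens_tprod (b : ∀ i, AdjoinRoot (g p c x i)) :
    fromTens p c x (PiTensorProduct.tprod R b) = ∏ i, factor p c x i (b i) := by
  simp [fromTens]

noncomputable def equiv : Alg p c x ≃ₐ[R] Tens p c x :=
  AlgEquiv.ofAlgHom (toTens p c x) (fromTens p c x)
    (by
      refine PiTensorProduct.algHom_ext fun i => AdjoinRoot.algHom_ext ?_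
      simp only [AlgHom.comp_apply, AlgHom.coe_id, id_eq]
      rw [PiTensorProduct.singleAlgHom_apply, fromTens_tprod, Finset.prod_eq_single i]
      · rw [MonoidHom.mulSingle_apply, Pi.mulSingle_eq_same, factor, AdjoinRoot.liftAlgHom_root, toTens_gen,
          PiTensorProduct.singleAlgHom_apply]
        simp
      · intro j _ hj; rw [MonoidHom.mulSingle_apply, Pi.mulSingle_eq_of_ne hj, map_one]
      · simp)
    (by
      refine Ideal.Quotient.algHom_ext _ (MvPolynomial.algHom_ext fun i => ?_)
      simp only [AlgHom.comp_apply, AlgHom.coe_id, id_eq, Ideal.Quotient.mkₐ_eq_mk]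
      change fromTens p c x (toTens p c x (gen p c x i)) = gen p c x i
      rw [toTens_gen, PiTensorProduct.singleAlgHom_apply, fromTens_tprod, Finset.prod_eq_single i]
      · rw [MonoidHom.mulSingle_apply, Pi.mulSingle_eq_same, factor, AdjoinRoot.liftAlgHom_root]
      · intro j _ hj; rw [MonoidHom.mulSingle_apply, Pi.mulSingle_eq_of_ne hj, map_one]
      · simp)

variable [Nontrivial R] {p}

/-- The monomials with exponents below `p` form a basis. -/
noncomputable def basis (hp : 2 ≤ p) : Module.Basis (σ → Fin p) R (Alg p c x) :=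
  (Basis.piTensorProduct fun i => (AdjoinRoot.powerBasis' (g_monic c x hp i)).basis.reindex
    (finCongr (show (AdjoinRoot.powerBasis' (g_monic c x hp i)).dim = p by
      rw [AdjoinRoot.powerBasis'_dim, g_natDegree c x hp i]))).map (equiv p c x).symm.toLinearEquiv

theorem basis_apply (hp : 2 ≤ p) (e : σ → Fin p) : basis c x hp e = mono p c x e := by
  rw [basis, Module.Basis.map_apply, Basis.piTensorProduct_apply]
  change fromTens p c x _ = _
  rw [fromTens_tprod, mono]
  refine Finset.prod_congr rfl fun i _ => ?_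
  rw [Module.Basis.reindex_apply, PowerBasis.coe_basis, map_pow]
  simp [factor, AdjoinRoot.powerBasis'_gen]

theorem free (hp : 2 ≤ p) : Module.Free R (Alg p c x) := .of_basis (basis c x hp)

theorem finite (hp : 2 ≤ p) : Module.Finite R (Alg p c x) := .of_basis (basis c x hp)

theorem finrank_eq (hp : 2 ≤ p) : Module.finrank R (Alg p c x) = p ^ Fintype.card σ := by
  rw [Module.finrank_eq_card_basis (basis c x hp)]; simp

theorem injective (hp : 2 ≤ p) : Function.Injective (algebraMap R (Alg p c x)) := by
  haveI := free c x hp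
  haveI : NeZero p := ⟨by omega⟩
  haveI : Nontrivial (Alg p c x) := ⟨⟨basis c x hp (fun _ => 0), 0, (basis c x hp).ne_zero _⟩⟩
  exact FaithfulSMul.algebraMap_injective _ _

/-- Every element of the algebra is congruent to a scalar modulo the generators. -/
theorem exists_sub_mem_span (hp : 2 ≤ p) (b : Alg p c x) :
    ∃ r, b - algebraMap R (Alg p c x) r ∈ Ideal.span (Set.range (gen p c x)) := by
  have hb : b ∈ Submodule.span R (Set.range (basis c x hp)) := by rw [(basis c x hp).span_eq]; exact Submodule.mem_top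
  induction hb using Submodule.span_induction with
  | mem y hy =>
    obtain ⟨e, rfl⟩ := hy
    rw [basis_apply]
    by_cases he : ∀ i, (e i : ℕ) = 0
    · exact ⟨1, by simp [mono, he]⟩
    · push_neg at he
      obtain ⟨i, hi⟩ := he
      refine ⟨0, ?_⟩
      rw [map_zero, sub_zero, mono, ← Finset.mul_prod_erase _ _ (Finset.mem_univ i)]
      exact Ideal.mul_mem_right _ _ (Ideal.pow_mem_of_mem _ (Ideal.subset_span (Set.mem_range_self i)) _
        (Nat.pos_of_ne_zero hi))
  | zero => exact ⟨0, by simp⟩
  | add y z _ _ hy hz =>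
    obtain ⟨r, hr⟩ := hy
    obtain ⟨s, hs⟩ := hz
    exact ⟨r + s, by rw [map_add, add_sub_add_comm]; exact add_mem hr hs⟩
  | smul t y _ hy =>
    obtain ⟨r, hr⟩ := hy
    refine ⟨t * r, ?_⟩
    rw [map_mul, Algebra.smul_def t y, ← mul_sub]
    exact Ideal.mul_mem_left _ _ hr

end Free

section PowerSeries
open IsLocalRing
variable {k : Type u} [Field k] {n : ℕ} {p : ℕ} (c : Fin n → MvPowerSeries (Fin n) k)

local notation "xs" => (MvPowerSeries.X : Fin _ → MvPowerSeries (Fin _) _)

theorem isNoetherianRing_base : IsNoetherianRing (MvPowerSeries (Fin n) k) :=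
  haveI := (CAlgH.isRegularLocalRing_mvPowerSeries k n).1; inferInstance

theorem isAdicComplete_base :
    IsAdicComplete (maximalIdeal (MvPowerSeries (Fin n) k)) (MvPowerSeries (Fin n) k) := by
  haveI : IsAdicComplete (maximalIdeal k) k := by rw [IsLocalRing.maximalIdeal_eq_bot]; infer_instance
  exact CAlgH.isAdicComplete_maximalIdeal_mvPowerSeries

theorem dim_base : ringKrullDim (MvPowerSeries (Fin n) k) = n := by
  rw [CAlgH.AdicSmooth.ringKrullDim_mvPowerSeries_regular, ringKrullDim_eq_zero_of_field, zero_add]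

theorem gen_mem_of_isMaximal (hp : 2 ≤ p) (hc : ∀ i, MvPowerSeries.constantCoeff (c i) = 0)
    (M : Ideal (Alg p c xs)) [M.IsMaximal] : Ideal.span (Set.range (gen p c xs)) ≤ M := by
  haveI := finite c xs hp
  have hM : M.comap (algebraMap (MvPowerSeries (Fin n) k) (Alg p c xs))
      = maximalIdeal (MvPowerSeries (Fin n) k) :=
    IsLocalRing.eq_maximalIdeal (Ideal.isMaximal_comap_of_isIntegral_of_isMaximal _)
  have hmem : ∀ r, MvPowerSeries.constantCoeff r = 0 → algebraMap (MvPowerSeries (Fin n) k) (Alg p c xs) r ∈ M :=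
    fun r hr => by
      rw [← Ideal.mem_comap, hM, IsLocalRing.mem_maximalIdeal, mem_nonunits_iff,
        MvPowerSeries.isUnit_iff_constantCoeff, hr]
      exact not_isUnit_zero
  rw [Ideal.span_le]
  rintro _ ⟨i, rfl⟩
  apply (inferInstance : M.IsMaximal).isPrime.mem_of_pow_mem p
  rw [gen_pow]
  exact add_mem (M.mul_mem_right _ (hmem _ (hc i))) (hmem _ (MvPowerSeries.constantCoeff_X i))

theorem span_gen_isMaximal (hp : 2 ≤ p) (hc : ∀ i, MvPowerSeries.constantCoeff (c i) = 0) :
    (Ideal.span (Set.range (gen p c xs))).IsMaximal := by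
  haveI := finite c xs hp
  haveI : NeZero p := ⟨by omega⟩
  haveI : Nontrivial (Alg p c xs) := ⟨⟨basis c xs hp (fun _ => 0), 0, (basis c xs hp).ne_zero _⟩⟩
  obtain ⟨M, hM⟩ := Ideal.exists_maximal (Alg p c xs)
  have hle := gen_mem_of_isMaximal c hp hc M
  have hx : ∀ i, algebraMap (MvPowerSeries (Fin n) k) (Alg p c xs) (MvPowerSeries.X i)
      ∈ Ideal.span (Set.range (gen p c xs)) := fun i => by
    rw [eq_sub_of_add_eq' (gen_pow p c xs i).symm]
    exact sub_mem (Ideal.pow_mem_of_mem _ (Ideal.subset_span (Set.mem_range_self i)) _ (by omega))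
      (Ideal.mul_mem_left _ _ (Ideal.subset_span (Set.mem_range_self i)))
  have hmap : (maximalIdeal (MvPowerSeries (Fin n) k)).map (algebraMap _ (Alg p c xs))
      ≤ Ideal.span (Set.range (gen p c xs)) := by
    rw [CAlgH3.maximalIdeal_mvPowerSeries_eq, Ideal.map_span, Ideal.span_le]
    rintro _ ⟨_, ⟨i, rfl⟩, rfl⟩
    exact hx i
  suffices M ≤ Ideal.span (Set.range (gen p c xs)) by rwa [le_antisymm hle this]
  intro b hb
  obtain ⟨r, hr⟩ := exists_sub_mem_span c xs hp b
  have hrM : algebraMap _ (Alg p c xs) r ∈ M := by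
    have := sub_mem hb (hle hr); simpa using this
  have hr' : r ∈ maximalIdeal (MvPowerSeries (Fin n) k) :=
    IsLocalRing.le_maximalIdeal (Ideal.comap_ne_top _ hM.ne_top) hrM
  simpa using add_mem hr (hmap (Ideal.mem_map_of_mem _ hr'))

theorem isLocalRing (hp : 2 ≤ p) (hc : ∀ i, MvPowerSeries.constantCoeff (c i) = 0) :
    IsLocalRing (Alg p c xs) :=
  IsLocalRing.of_unique_max_ideal ⟨_, span_gen_isMaximal c hp hc, fun M hM =>
    haveI := hM
    ((span_gen_isMaximal c hp hc).eq_of_le hM.ne_top (gen_mem_of_isMaximal c hp hc M)).symm⟩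

theorem isRegularLocalRing (hp : 2 ≤ p) (hc : ∀ i, MvPowerSeries.constantCoeff (c i) = 0) :
    IsRegularLocalRing (Alg p c xs) := by
  haveI := finite c xs hp
  haveI := isLocalRing c hp hc
  haveI := isNoetherianRing_base (k := k) (n := n)
  haveI : IsNoetherianRing (Alg p c xs) := IsNoetherianRing.of_finite (MvPowerSeries (Fin n) k) _
  apply IsRegularLocalRing.of_spanFinrank_maximalIdeal_le
  rw [← IsLocalRing.eq_maximalIdeal (span_gen_isMaximal c hp hc),
    ← DimLib.ringKrullDim_eq_of_isIntegral (injective c xs hp), dim_base]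
  refine Nat.cast_le.mpr (le_trans (Submodule.spanFinrank_span_le_ncard_of_finite (Set.finite_range _)) ?_)
  calc (Set.range (gen p c xs)).ncard ≤ Nat.card (Fin n) := by
        rw [← Set.image_univ]; exact le_trans (Set.ncard_image_le Set.finite_univ) (by simp [Set.ncard_univ])
    _ = n := by simp

theorem isDomain (hp : 2 ≤ p) (hc : ∀ i, MvPowerSeries.constantCoeff (c i) = 0) :
    IsDomain (Alg p c xs) :=
  haveI := isRegularLocalRing c hp hc
  CAlgH3.isDomain_of_isRegularLocalRing _

theorem isAdicComplete (hp : 2 ≤ p) (hc : ∀ i, MvPowerSeries.constantCoeff (c i) = 0) :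
    IsAdicComplete (Ideal.span (Set.range (gen p c xs))) (Alg p c xs) := by
  haveI := finite c xs hp
  haveI := isLocalRing c hp hc
  haveI := isNoetherianRing_base (k := k) (n := n)
  haveI := isAdicComplete_base (k := k) (n := n)
  rw [IsLocalRing.eq_maximalIdeal (span_gen_isMaximal c hp hc)]
  exact CAlgMisc2.isAdicComplete_maximalIdeal_of_finite (A := MvPowerSeries (Fin n) k)

end PowerSeries

end Groth.Agent.WildAS
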