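import Mathlib
import Groth.Agent.WildAS.Basic

/-! Translations of Artin–Schreier algebras and the trace form. -/

universe u

open MvPolynomial

namespace Groth.Agent.WildAS

variable {R : Type u} [CommRing R] [Nontrivial R] {σ : Type} [Fintype σ] [DecidableEq σ] {p : ℕ}
  (c x : σ → R)

/-- Coefficient of the top monomial. -/
noncomputable def top (hp : 2 ≤ p) : Alg p c x →ₗ[R] R :=
  (basis c x hp).coord fun _ => ⟨p - 1, by omega⟩

theorem repr_prod_aeval (hp : 2 ≤ p) (P : σ → Polynomial R) (e : σ → Fin p) :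
    (basis c x hp).repr (∏ i, Polynomial.aeval (gen p c x i) (P i)) e
      = ∏ i, (P i %ₘ g p c x i).coeff (e i) := by
  have h1 : ∏ i, Polynomial.aeval (gen p c x i) (P i)
      = fromTens p c x (PiTensorProduct.tprod R fun i => AdjoinRoot.mk (g p c x i) (P i)) := by
    rw [fromTens_tprod]
    refine Finset.prod_congr rfl fun i _ => ?_
    rw [← AdjoinRoot.aeval_eq, ← Polynomial.aeval_algHom_apply]
    simp [factor]
  rw [h1, basis, Module.Basis.map_repr, LinearEquiv.trans_apply]
  change (Basis.piTensorProduct _).repr (equiv p c x (fromTens p c x _)) e = _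
  have h2 : ∀ z, equiv p c x (fromTens p c x z) = z := fun z => (equiv p c x).apply_symm_apply z
  rw [h2, Basis.piTensorProduct_repr_tprod_apply]
  refine Finset.prod_congr rfl fun i _ => ?_
  rw [Module.Basis.repr_reindex_apply]
  change (AdjoinRoot.powerBasisAux' (g_monic c x hp i)).repr _ _ = _
  rw [AdjoinRoot.powerBasisAux'_repr_apply_to_fun, AdjoinRoot.modByMonicHom_mk]
  rfl

theorem top_prod_aeval (hp : 2 ≤ p) (P : σ → Polynomial R) :
    top c x hp (∏ i, Polynomial.aeval (gen p c x i) (P i)) = ∏ i, (P i %ₘ g p c x i).coeff (p - 1) :=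
  repr_prod_aeval c x hp P _

theorem algHom_apply_mono {S : Type*} [CommRing S] [Algebra R S] (f : Alg p c x →ₐ[R] S) (e : σ → Fin p) :
    f (mono p c x e) = ∏ i, f (gen p c x i) ^ (e i : ℕ) := by
  simp [mono, map_prod]

omit [Nontrivial R] [Fintype σ] [DecidableEq σ] in
theorem algHom_ext' {S : Type*} [CommRing S] [Algebra R S] {f f' : Alg p c x →ₐ[R] S}
    (h : ∀ i, f (gen p c x i) = f' (gen p c x i)) : f = f' :=
  Ideal.Quotient.algHom_ext _ (MvPolynomial.algHom_ext fun i => h i)

theorem degree_lt_mod_self (hp : 2 ≤ p) (i : σ) {P : Polynomial R} (hP : P.natDegree < p) :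
    P %ₘ g p c x i = P := by
  rw [Polynomial.modByMonic_eq_self_iff (g_monic c x hp i)]
  refine lt_of_le_of_lt Polynomial.degree_le_natDegree ?_
  rw [Polynomial.degree_eq_natDegree (g_monic c x hp i).ne_zero, g_natDegree c x hp i]
  exact_mod_cast hP

theorem top_comp_translation (hp : 2 ≤ p) (f : Alg p c x →ₐ[R] Alg p c x) (d : σ → R)
    (hf : ∀ i, f (gen p c x i) = gen p c x i + algebraMap R (Alg p c x) (d i)) (b : Alg p c x) :
    top c x hp (f b) = top c x hp b := by
  suffices (top c x hp).comp f.toLinearMap = top c x hp from LinearMap.congr_fun this b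
  refine (basis c x hp).ext fun e => ?_
  rw [LinearMap.comp_apply, AlgHom.toLinearMap_apply, basis_apply, algHom_apply_mono]
  have h1 : ∏ i, f (gen p c x i) ^ (e i : ℕ)
      = ∏ i, Polynomial.aeval (gen p c x i) ((Polynomial.X + Polynomial.C (d i)) ^ (e i : ℕ)) :=
    Finset.prod_congr rfl fun i _ => by simp [hf i]
  have h2 : mono p c x e = ∏ i, Polynomial.aeval (gen p c x i) ((Polynomial.X : Polynomial R) ^ (e i : ℕ)) :=
    Finset.prod_congr rfl fun i _ => by simp
  rw [h1, h2, top_prod_aeval, top_prod_aeval]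
  refine Finset.prod_congr rfl fun i _ => ?_
  have hdeg : ∀ r : R, ((Polynomial.X + Polynomial.C r) ^ (e i : ℕ)).natDegree < p := fun r =>
    lt_of_le_of_lt Polynomial.natDegree_pow_le
      (by rw [Polynomial.natDegree_X_add_C, mul_one]; exact (e i).2)
  rw [degree_lt_mod_self c x hp i (hdeg (d i)),
    degree_lt_mod_self c x hp i (by rw [Polynomial.natDegree_X_pow]; exact (e i).2),
    Polynomial.coeff_X_add_C_pow, Polynomial.coeff_X_pow]
  rcases Nat.lt_or_ge (e i : ℕ) (p - 1) with h | h
  · rw [if_neg (by omega), Nat.choose_eq_zero_of_lt h]; simp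
  · have : (e i : ℕ) = p - 1 := by have := (e i).2; omega
    simp [this]

/-- The dual of `X ^ j` in one variable. -/
noncomputable def dualPoly (p : ℕ) (c₀ : R) (j : ℕ) : Polynomial R :=
  if j = 0 then Polynomial.X ^ (p - 1) - Polynomial.C c₀ else Polynomial.X ^ (p - 1 - j)

theorem coeff_mul_dualPoly (hp : 2 ≤ p) (i : σ) (m j : ℕ) (hm : m < p) (hj : j < p) :
    ((Polynomial.X ^ m * dualPoly p (c i) j) %ₘ g p c x i).coeff (p - 1) = if m = j then 1 else 0 := by
  have key : ∀ s, s + 2 ≤ p → (Polynomial.X ^ (p + s)) %ₘ g p c x i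
      = Polynomial.C (c i) * Polynomial.X ^ (s + 1) + Polynomial.C (x i) * Polynomial.X ^ s := by
    intro s hs
    rw [Polynomial.modByMonic_eq_of_dvd_sub (g_monic c x hp i) (p₂ := Polynomial.C (c i) * Polynomial.X ^ (s + 1)
      + Polynomial.C (x i) * Polynomial.X ^ s) ⟨Polynomial.X ^ s, by rw [g]; ring⟩]
    apply degree_lt_mod_self c x hp i
    refine lt_of_le_of_lt (Polynomial.natDegree_add_le _ _) (max_lt ?_ ?_) <;>
      exact lt_of_le_of_lt (Polynomial.natDegree_C_mul_X_pow_le _ _) (by omega)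
  have low : ∀ s, s < p → (Polynomial.X ^ s : Polynomial R) %ₘ g p c x i = Polynomial.X ^ s :=
    fun s hs => degree_lt_mod_self c x hp i (by rw [Polynomial.natDegree_X_pow]; exact hs)
  rw [dualPoly]
  split_ifs with hj0 hmj hmj
  · subst hj0; subst hmj
    rw [pow_zero, one_mul, Polynomial.sub_modByMonic, low _ (by omega),
      degree_lt_mod_self c x hp i (by rw [Polynomial.natDegree_C]; omega)]
    rw [Polynomial.coeff_sub, Polynomial.coeff_X_pow, Polynomial.coeff_C, if_pos rfl, if_neg (by omega)]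
    simp
  · subst hj0
    rw [mul_sub, ← pow_add, Polynomial.sub_modByMonic, show m + (p - 1) = p + (m - 1) by omega,
      key (m - 1) (by omega), show m - 1 + 1 = m by omega]
    rw [degree_lt_mod_self c x hp i (P := Polynomial.X ^ m * Polynomial.C (c i))
      (lt_of_le_of_lt (Polynomial.natDegree_mul_C_le _ _) (by rw [Polynomial.natDegree_X_pow]; exact hm))]
    simp [Polynomial.coeff_X_pow, Polynomial.coeff_C_mul, Polynomial.coeff_mul_C, show p - 1 ≠ m - 1 by omega]
  · rw [← pow_add, low _ (by omega), Polynomial.coeff_X_pow, if_pos (by omega)]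
  · rw [← pow_add]
    rcases Nat.lt_or_ge (m + (p - 1 - j)) p with h | h
    · rw [low _ h, Polynomial.coeff_X_pow, if_neg (by omega)]
    · obtain ⟨s, hs⟩ := Nat.exists_eq_add_of_le h
      rw [hs, key s (by omega)]
      simp [Polynomial.coeff_X_pow, Polynomial.coeff_C_mul, show p - 1 ≠ s + 1 by omega, show p - 1 ≠ s by omega]

theorem exists_top_mul_eq (hp : 2 ≤ p) (ψ : Alg p c x →ₗ[R] R) :
    ∃ y, ∀ b, top c x hp (b * y) = ψ b := by
  classical
  let Y : (σ → Fin p) → Alg p c x := fun e =>
    ∏ i, Polynomial.aeval (gen p c x i) (dualPoly p (c i) (e i : ℕ))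
  refine ⟨∑ e, ψ (basis c x hp e) • Y e, fun b => ?_⟩
  suffices (top c x hp).comp (LinearMap.mulRight R (∑ e, ψ (basis c x hp e) • Y e)) = ψ from
    LinearMap.congr_fun this b
  refine (basis c x hp).ext fun f => ?_
  rw [LinearMap.comp_apply, LinearMap.mulRight_apply, Finset.mul_sum, map_sum]
  rw [Finset.sum_eq_single f]
  · rw [mul_smul_comm, map_smul]
    have : basis c x hp f * Y f
        = ∏ i, Polynomial.aeval (gen p c x i) (Polynomial.X ^ (f i : ℕ) * dualPoly p (c i) (f i : ℕ)) := by
      simp [Y, basis_apply, mono, ← Finset.prod_mul_distrib]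
    rw [this, top_prod_aeval, Finset.prod_eq_one (fun i _ => by
      rw [coeff_mul_dualPoly c x hp i _ _ (f i).2 (f i).2, if_pos rfl]), smul_eq_mul, mul_one]
  · intro e _ he
    obtain ⟨i, hi⟩ := Function.ne_iff.mp he
    rw [mul_smul_comm, map_smul]
    have : basis c x hp f * Y e
        = ∏ j, Polynomial.aeval (gen p c x j) (Polynomial.X ^ (f j : ℕ) * dualPoly p (c j) (e j : ℕ)) := by
      simp [Y, basis_apply, mono, ← Finset.prod_mul_distrib]
    rw [this, top_prod_aeval, Finset.prod_eq_zero (Finset.mem_univ i) (by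
      rw [coeff_mul_dualPoly c x hp i _ _ (f i).2 (e i).2, if_neg (fun h => hi (Fin.ext h.symm))]), smul_zero]
  · simp

theorem eq_zero_of_top_mul_eq_zero (hp : 2 ≤ p) (y : Alg p c x) (h : ∀ b, top c x hp (b * y) = 0) : y = 0 := by
  refine (basis c x hp).ext_elem fun e => ?_
  obtain ⟨z, hz⟩ := exists_top_mul_eq c x hp ((basis c x hp).coord e)
  have h1 := hz y
  rw [mul_comm, h z] at h1
  simpa using h1.symm

end Groth.Agent.WildAS
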